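import Groth.Agent.Etcore.CompH
import Groth.Agent.CohqA.TwoChart
import Groth.Agent.EtpbcA.ArtinSupp
import Groth.Prelude.Def_ModelsG

/-!
# `H^q(X, M)` and `h¹(X, O_X)` for a finite disjoint union of open subschemes

* `nonempty_equiv_of_cover`: `H^q(X, M) ≃ ∏ H^q(W i, M)`;
* `sum_genus_le`: `∑ h¹(W i, O) ≤ h¹(X, O)`.
-/

set_option autoImplicit false
universe u

open CategoryTheory CategoryTheory.Limits CategoryTheory.Abelian AlgebraicGeometry Opposite

namespace Groth.Agent.Models.H73.Disj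

open Groth.Agent.Sga4B.ConstLC Groth.Agent.Etcore.CompSES Groth.Agent.Etcore.CompH

section Etale

theorem nonempty_equiv_of_data {X : Scheme.{u}} {n : ℕ} {Y : Fin n → Scheme.{u}} (f : ∀ i, Y i ⟶ X)
    [∀ i, IsFinite (f i)] (D : Data f) (hT : D.T = ∅) (M : Type) [AddCommGroup M] (q : ℕ) :
    Nonempty (EtCoh.H X (EtCoh.const X M) q ≃+ ∀ i, EtCoh.H (Y i) (EtCoh.const (Y i) M) q) := by
  have h0 : IsZero (cokernel (φ f (ULift.{u + 1} M))) :=
    EtpbcA.Artin.isZero_of_forall _ fun x hx => by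
      have := supp_coker f M D hx
      simp [hT] at this
  have hm : Mono (φ f (ULift.{u + 1} M)) := mono_φ f _ D.surj
  have he : Epi (φ f (ULift.{u + 1} M)) := Preadditive.epi_of_isZero_cokernel _ h0
  have hi : IsIso (φ f (ULift.{u + 1} M)) := isIso_of_mono_of_epi _
  exact ⟨(Sga4B.HTools.HCongr (constIso X M) q).trans
    ((Sga4B.HTools.HCongr (asIso (φ f (ULift.{u + 1} M))) q).trans
      ((Ext.addEquivBiproduct (EtCoh.const X ℤ) (biproduct.isBilimit (S f (ULift.{u + 1} M))) q).trans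
        (AddEquiv.piCongrRight fun i => HS f M i q)))⟩

variable {X : Scheme.{u}} {n : ℕ} (W : Fin n → X.Opens)
    (hd : ∀ i j, i ≠ j → Disjoint (W i : Set X) (W j)) (hc : ∀ x : X, ∃ i, x ∈ W i)

include hd hc in
theorem isClosedImmersion_ι (i : Fin n) : IsClosedImmersion (W i).ι := by
  apply IsClosedImmersion.of_isPreimmersion
  rw [Scheme.Opens.range_ι]
  have h : (W i : Set X) = (⋃ (j : Fin n) (_ : j ≠ i), (W j : Set X))ᶜ := by
    ext x
    simp only [Set.mem_compl_iff, Set.mem_iUnion, not_exists]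
    constructor
    · intro hx j hj hxj
      exact Set.disjoint_left.1 (hd j i hj) hxj hx
    · intro h
      obtain ⟨j, hj⟩ := hc x
      by_cases hji : j = i
      · rwa [← hji]
      · exact (h j hji hj).elim
  rw [h]
  exact (isOpen_iUnion fun j => isOpen_iUnion fun _ => (W j).isOpen).isClosed_compl

include hd hc in
theorem nonempty_equiv_of_cover (M : Type) [AddCommGroup M] (q : ℕ) :
    Nonempty (EtCoh.H X (EtCoh.const X M) q ≃+
      ∀ i, EtCoh.H (W i) (EtCoh.const (W i : Scheme.{u}) M) q) := by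
  have hci := isClosedImmersion_ι W hd hc
  let D : Data (fun i => (W i).ι) :=
    { V := W
      T := ∅
      homeo := fun i => by
        have h1 : IsOpenImmersion ((W i).ι ∣_ W i) := inferInstance
        refine ⟨inferInstance, ⟨fun y => ⟨⟨⟨y.1, y.2⟩, y.2⟩, ?_⟩⟩⟩
        apply Subtype.ext
        rw [morphismRestrict_base_coe]
        rfl
      disj := fun i j hij => by
        rw [Scheme.Opens.range_ι]
        exact hd j i hij
      closed := fun x hx => absurd hx (Finset.notMem_empty x)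
      sepClosed := fun x hx => absurd hx (Finset.notMem_empty x)
      cover := fun x _ => hc x
      surj := fun x => by
        obtain ⟨i, hi⟩ := hc x
        exact ⟨i, by rw [Scheme.Opens.range_ι]; exact hi⟩ }
  exact nonempty_equiv_of_data (fun i => (W i).ι) D rfl M q

end Etale

section Coh

variable {X : Scheme.{u}} {n : ℕ} (W : Fin n → X.Opens)
    (hd : ∀ i j, i ≠ j → Disjoint (W i : Set X) (W j)) (hc : ∀ x : X, ∃ i, x ∈ W i)

include hd hc in
/-- Gluing of functions on a disjoint union. -/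
theorem exists_glue (T : X.Opens) (z : ∀ i, Γ(W i, (W i).ι ⁻¹ᵁ T)) :
    ∃ s : Γ(X, T), ∀ i, (W i).ι.app T s = z i := by
  obtain ⟨s, hs, -⟩ := X.sheaf.existsUnique_gluing' (fun i => (W i).ι ''ᵁ (W i).ι ⁻¹ᵁ T) T
    (fun i => homOfLE (by
      rintro x ⟨y, hy, rfl⟩
      exact hy)) (by
      intro x hx
      obtain ⟨i, hi⟩ := hc x
      exact TopologicalSpace.Opens.mem_iSup.2 ⟨i, ⟨x, hi⟩, hx, rfl⟩) (fun i => z i) (by
      intro i j
      by_cases hij : i = j
      · subst hij
        rfl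
      · have h0 : (W i).ι ''ᵁ (W i).ι ⁻¹ᵁ T ⊓ (W j).ι ''ᵁ (W j).ι ⁻¹ᵁ T = ⊥ := by
          rw [eq_bot_iff]
          rintro x ⟨⟨y, -, hy⟩, ⟨y', -, hy'⟩⟩
          have h1 : x ∈ W i := by
            rw [← hy]
            exact y.2
          have h2 : x ∈ W j := by
            rw [← hy']
            exact y'.2
          exact (Set.disjoint_left.1 (hd i j hij) h1 h2).elim
        have h1 : Subsingleton Γ(X, (W i).ι ''ᵁ (W i).ι ⁻¹ᵁ T ⊓ (W j).ι ''ᵁ (W j).ι ⁻¹ᵁ T) := by
          rw [h0]
          infer_instance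
        exact h1.elim _ _)
  refine ⟨s, fun i => ?_⟩
  rw [Scheme.Opens.ι_app]
  exact hs i

end Coh

end Groth.Agent.Models.H73.Disj
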